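import Groth.Agent.ResProp.EF.X56.NF
import Mathlib.Algebra.BigOperators.Fin

/-!
# Cobar cochains of a cartesian presheaf on a groupoid ring, and Galois descent

`cob F n : F⟨n⟩ →+ F⟨n+1⟩` the alternating sum of the cofaces.  `Gal B C`: the groupoid ring `B` is the Cech nerve of a
faithfully flat ring map `C → B⟨0⟩`.  Then for every cartesian `F` : `B⟨0⟩ ⊗_C co F = F⟨0⟩` (`Gal.isBC_co`) and the cobar
complex is exact in positive degrees (`Gal.exact`).
-/

set_option autoImplicit false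
set_option linter.dupNamespace false
set_option linter.style.haveILetI false

open CategoryTheory Opposite

namespace Groth.Agent.ResProp.EF.K477

open K784.BC K784.PM K741.RP EF56

universe w₂ w₁ w u

/-- the coface forgetting the `i`-th factor -/
def del (n : ℕ) (i : Fin (n + 2)) : (⟨n + 1⟩ : NF) ⟶ ⟨n⟩ := (Fin.succAbove i : Fin (n + 1) → Fin (n + 2))

theorem del_last (n : ℕ) : del n (Fin.last (n + 1)) = pr ⟨n⟩ := by
  funext i
  exact Fin.succAbove_last_apply i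

theorem del_zero_zero : del 0 0 = lst ⟨0⟩ := by
  funext i
  fin_cases i
  rfl

theorem wmap_last {a b : NF} (φ : a ⟶ b) : (wmap φ : Fin (b.n + 2) → Fin (a.n + 2)) (Fin.last (b.n + 1)) =
    Fin.last (a.n + 1) := congrFun (wmap_lst φ) 0

theorem wmap_castSucc {a b : NF} (φ : a ⟶ b) (j : Fin (b.n + 1)) :
    (wmap φ : Fin (b.n + 2) → Fin (a.n + 2)) j.castSucc = ((φ : Fin (b.n + 1) → Fin (a.n + 1)) j).castSucc :=
  congrFun (wmap_pr φ) j

/-- `del i`, `i` not last, fixes the last factor -/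
theorem del_castSucc (n : ℕ) (i : Fin (n + 2)) : del (n + 1) i.castSucc = wmap (del n i) := by
  funext j
  refine Fin.lastCases ?_ (fun j => ?_) j
  · refine Eq.trans ?_ (wmap_last (del n i)).symm
    have h : i.castSucc ≤ (Fin.last (n + 1)).castSucc := Fin.castSucc_le_castSucc_iff.2 (Fin.le_last i)
    exact (Fin.succAbove_of_le_castSucc _ _ h).trans (Fin.succ_last _)
  · refine Eq.trans ?_ (wmap_castSucc (del n i) j).symm
    exact Fin.castSucc_succAbove_castSucc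

theorem sgn_aux {G : Type*} [AddCommGroup G] (a b : G) (k : ℕ) (h : a + (-1 : ℤ) ^ k • b = 0) :
    b = -((-1 : ℤ) ^ k • a) := by
  rcases neg_one_pow_eq_or ℤ k with hk | hk
  · rw [hk, one_smul] at h ⊢
    exact (neg_eq_of_add_eq_zero_right h).symm
  · rw [hk, neg_smul, one_smul] at h ⊢
    rw [neg_neg]
    exact (sub_eq_zero.1 (by rw [sub_eq_add_neg]; exact h)).symm

variable {B : NFᵒᵖ ⥤ CommRingCat.{u}}

/-- the cobar differential -/
def cob (F : PM.{w} B) (n : ℕ) : F.obj ⟨n⟩ →+ F.obj ⟨n + 1⟩ :=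
  ∑ i : Fin (n + 2), (-1 : ℤ) ^ (i : ℕ) • F.map (del n i)

theorem cob_apply (F : PM.{w} B) (n : ℕ) (x : F.obj ⟨n⟩) :
    cob F n x = ∑ i : Fin (n + 2), (-1 : ℤ) ^ (i : ℕ) • F.map (del n i) x := by
  simp [cob]

/-- the cobar differential without the last coface -/
def cob' (F : PM.{w} B) (n : ℕ) : F.obj ⟨n + 1⟩ →+ F.obj ⟨n + 2⟩ :=
  ∑ i : Fin (n + 2), (-1 : ℤ) ^ (i : ℕ) • F.map (del (n + 1) i.castSucc)

theorem cob'_apply (F : PM.{w} B) (n : ℕ) (x : F.obj ⟨n + 1⟩) :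
    cob' F n x = ∑ i : Fin (n + 2), (-1 : ℤ) ^ (i : ℕ) • F.map (del (n + 1) i.castSucc) x := by
  simp [cob']

theorem cob_succ (F : PM.{w} B) (n : ℕ) (x : F.obj ⟨n + 1⟩) :
    cob F (n + 1) x = cob' F n x + (-1 : ℤ) ^ (n + 2) • F.map (pr ⟨n + 1⟩) x := by
  rw [cob_apply, Fin.sum_univ_castSucc, cob'_apply, del_last]
  simp

theorem cob_zero (F : PM.{w} B) (x : F.obj ⟨0⟩) : cob F 0 x = F.map (lst ⟨0⟩) x - F.map (pr ⟨0⟩) x := by
  rw [cob_apply, Fin.sum_univ_two, del_zero_zero, show (1 : Fin 2) = Fin.last 1 from rfl, del_last]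
  simp [sub_eq_add_neg]

theorem cob'_map (F : PM.{w} B) (n : ℕ) (x : F.obj ⟨n⟩) :
    cob' F n (F.map (pr ⟨n⟩) x) = F.map (pr ⟨n + 1⟩) (cob F n x) := by
  rw [cob'_apply, cob_apply, map_sum]
  refine Finset.sum_congr rfl fun i _ => ?_
  rw [map_zsmul, ← F.map_comp, ← F.map_comp, del_castSucc, wmap_pr]

theorem cob'_smul (F : PM.{w} B) (n : ℕ) (b : B.obj (op ⟨0⟩)) (x : F.obj ⟨n + 1⟩) :
    cob' F n (rg B (lst ⟨n⟩) b • x) = rg B (lst ⟨n + 1⟩) b • cob' F n x := by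
  rw [cob'_apply, cob'_apply, Finset.smul_sum]
  refine Finset.sum_congr rfl fun i _ => ?_
  have h : rg B (del (n + 1) i.castSucc) (rg B (lst ⟨n⟩) b) = rg B (lst ⟨n + 1⟩) b := by
    rw [← rg_comp_apply, del_castSucc, wmap_lst]
  rw [F.map_smul, smul_comm, h]

/-- the groupoid ring is the Cech nerve of a faithfully flat ring map from `C` -/
structure Gal (B : NFᵒᵖ ⥤ CommRingCat.{u}) (C : Type u) [CommRing C] where
  φ : C →+* B.obj (op ⟨0⟩)
  ff : φ.FaithfullyFlat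
  po : IsPO φ φ (rg B (pr ⟨0⟩)) (rg B (lst ⟨0⟩))

namespace Gal

variable {C : Type u} [CommRing C]

/-- any two points of `⟨n⟩` give the same map from `C` -/
theorem pt_eq (G : Gal B C) {a : NF} (f g : a ⟶ ⟨0⟩) : (rg B f).comp G.φ = (rg B g).comp G.φ := by
  have h : (rg B (pr ⟨0⟩)).comp G.φ = (rg B (lst ⟨0⟩)).comp G.φ := G.po.comm
  have e1 : f = lft f g ≫ pr ⟨0⟩ := (lft_pr f g).symm
  have e2 : g = lft f g ≫ lst ⟨0⟩ := (lft_lst f g).symm
  have h1 : rg B f = (rg B (lft f g)).comp (rg B (pr ⟨0⟩)) := by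
    conv_lhs => rw [e1]
    rw [rg_comp]
  have h2 : rg B g = (rg B (lft f g)).comp (rg B (lst ⟨0⟩)) := by
    conv_lhs => rw [e2]
    rw [rg_comp]
  rw [h1, h2, RingHom.comp_assoc, RingHom.comp_assoc, h]

/-- the structure map `C → B⟨n⟩` -/
def str (G : Gal B C) (a : NF) : C →+* B.obj (op a) := (rg B (pt a 0)).comp G.φ

theorem str_map (G : Gal B C) {a b : NF} (f : a ⟶ b) : (rg B f).comp (G.str b) = G.str a := by
  rw [str, ← RingHom.comp_assoc, ← rg_comp]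
  exact G.pt_eq _ _

theorem str_zero (G : Gal B C) : G.str ⟨0⟩ = G.φ := by
  have : pt ⟨0⟩ 0 = 𝟙 (⟨0⟩ : NF) := by
    funext i
    exact Subsingleton.elim (α := Fin 1) _ _
  rw [str, this, rg_id, RingHom.id_comp]

theorem lst_str (G : Gal B C) (a : NF) : (rg B (lst a)).comp G.φ = (rg B (pr a)).comp (G.str a) := by
  rw [str_map, str]
  exact G.pt_eq _ _

/-- the pushout square of `str a : C → B⟨a⟩` and `φ : C → B⟨0⟩` -/
theorem po_str (GB : GR B) (G : Gal B C) (a : NF) : IsPO G.φ (G.str a) (rg B (lst a)) (rg B (pr a)) := by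
  have h1 : IsPO G.φ G.φ (rg B (lst ⟨0⟩)) (rg B (pr ⟨0⟩)) := G.po.flip
  have h2 : IsPO (rg B (pr ⟨0⟩)) (rg B (pt a 0)) (rg B (wmap (pt a 0))) (rg B (pr a)) := (GB.po (pt a 0)).flip
  have h3 := IsPushout.paste_vert h1 h2
  have e : (rg B (wmap (pt a 0))).comp (rg B (lst ⟨0⟩)) = rg B (lst a) := by
    rw [← rg_comp, wmap_lst]
  unfold IsPO
  convert h3 using 1
  · rw [← CommRingCat.ofHom_comp]
    rfl
  · rw [← CommRingCat.ofHom_comp, e]

/-- adding the last factor is the base change along `φ` -/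
theorem isBC_pr (GB : GR B) (G : Gal B C) (F : PM.{w} B) (hF : F.Cart) (a : NF) :
    letI : Module C (F.obj a) := Module.compHom _ (G.str a)
    letI : Module (B.obj (op ⟨0⟩)) (F.obj ⟨a.n + 1⟩) := Module.compHom _ (rg B (lst a))
    IsBC G.φ (F.map (pr a)) := by
  letI : Module C (F.obj a) := Module.compHom _ (G.str a)
  letI : Module (B.obj (op ⟨0⟩)) (F.obj ⟨a.n + 1⟩) := Module.compHom _ (rg B (lst a))
  exact IsBC.of_po (G.po_str GB a) (fun _ _ => rfl) (fun _ _ => rfl) (hF (pr a))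

/-- **the cobar complex is exact in positive degrees** -/
theorem exact (GB : GR B) (G : Gal B C) (F : PM.{w} B) (hF : F.Cart) (n : ℕ) (x : F.obj ⟨n + 1⟩)
    (hx : cob F (n + 1) x = 0) : ∃ y : F.obj ⟨n⟩, cob F n y = x := by
  letI : Module C (F.obj ⟨n⟩) := Module.compHom _ (G.str ⟨n⟩)
  letI : Module C (F.obj ⟨n + 1⟩) := Module.compHom _ (G.str ⟨n + 1⟩)
  letI i1 : Module (B.obj (op ⟨0⟩)) (F.obj ⟨n + 1⟩) := Module.compHom _ (rg B (lst ⟨n⟩))
  letI i2 : Module (B.obj (op ⟨0⟩)) (F.obj ⟨n + 2⟩) := Module.compHom _ (rg B (lst ⟨n + 1⟩))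
  have hu : IsBC G.φ (F.map (pr ⟨n⟩)) := G.isBC_pr GB F hF ⟨n⟩
  have hu' : IsBC G.φ (F.map (pr ⟨n + 1⟩)) := G.isBC_pr GB F hF ⟨n + 1⟩
  -- `cob` is `C`-linear
  have hlin : ∀ (c : C) (y : F.obj ⟨n⟩), cob F n (c • y) = c • cob F n y := by
    intro c y
    rw [cob_apply, cob_apply, Finset.smul_sum]
    refine Finset.sum_congr rfl fun i _ => ?_
    change (-1 : ℤ) ^ (i : ℕ) • F.map (del n i) (G.str ⟨n⟩ c • y) = G.str ⟨n + 1⟩ c • _
    rw [F.map_smul, smul_comm, ← G.str_map (del n i)]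
    rfl
  let R : Submodule C (F.obj ⟨n + 1⟩) :=
    { (cob F n).range with
      smul_mem' := by
        rintro c _ ⟨y, rfl⟩
        exact ⟨c • y, hlin c y⟩ }
  let π : F.obj ⟨n + 1⟩ →ₗ[C] (F.obj ⟨n + 1⟩ ⧸ R) := R.mkQ
  letI := G.φ.toAlgebra
  haveI : Module.FaithfullyFlat C (B.obj (op ⟨0⟩)) := G.ff
  have h2 : IsBC G.φ (TensorProduct.mk C (B.obj (op ⟨0⟩)) (F.obj ⟨n + 1⟩ ⧸ R) 1).toAddMonoidHom :=
    isBC_mk G.φ (F.obj ⟨n + 1⟩ ⧸ R)
  obtain ⟨π', hπ'⟩ := IsBC.exists_map hu' h2.map_smul π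
  have h3 : ∀ y : F.obj ⟨n + 1⟩, π' (cob' F n y) = 0 := by
    intro y
    induction y using hu.induction with
    | zero => rw [map_zero, map_zero]
    | map m =>
      rw [cob'_map]
      refine (hπ' (cob F n m)).trans ?_
      have : π (cob F n m) = 0 := (Submodule.Quotient.mk_eq_zero R).2 ⟨m, rfl⟩
      rw [this, map_zero]
    | smul b y hy =>
      have e : cob' F n (b • y) = b • cob' F n y := cob'_smul F n b y
      rw [e, π'.map_smul, hy, smul_zero]
    | add y z hy hz => rw [map_add, map_add, hy, hz, add_zero]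
  have h4 : π x = 0 := by
    have h5 : F.map (pr ⟨n + 1⟩) x = -((-1 : ℤ) ^ (n + 2) • cob' F n x) := by
      rw [cob_succ] at hx
      exact sgn_aux _ _ _ hx
    have h6 := hπ' x
    rw [h5, map_neg, map_zsmul, h3, smul_zero, neg_zero] at h6
    exact Module.FaithfullyFlat.tensorProduct_mk_injective (A := C) (B := B.obj (op ⟨0⟩)) (F.obj ⟨n + 1⟩ ⧸ R)
      (h6.symm.trans (TensorProduct.tmul_zero _ _).symm)
  exact (Submodule.Quotient.mk_eq_zero R).1 h4

/-- the coinvariants -/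
def co (G : Gal B C) (F : PM.{w} B) :
    letI : Module C (F.obj ⟨0⟩) := Module.compHom _ G.φ
    Submodule C (F.obj ⟨0⟩) :=
  letI : Module C (F.obj ⟨0⟩) := Module.compHom _ G.φ
  { carrier := {x | F.map (pr ⟨0⟩) x = F.map (lst ⟨0⟩) x}
    add_mem' := fun {x y} hx hy => by
      change F.map (pr ⟨0⟩) (x + y) = F.map (lst ⟨0⟩) (x + y)
      rw [map_add, map_add]
      exact congrArg₂ _ hx hy
    zero_mem' := by
      change F.map (pr ⟨0⟩) 0 = F.map (lst ⟨0⟩) 0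
      rw [map_zero, map_zero]
    smul_mem' := fun c x hx => by
      change F.map (pr ⟨0⟩) (G.φ c • x) = F.map (lst ⟨0⟩) (G.φ c • x)
      rw [F.map_smul, F.map_smul]
      exact congrArg₂ _ (congr($(G.po.comm) c)) hx }

theorem mem_co (G : Gal B C) (F : PM.{w} B) (x : F.obj ⟨0⟩) :
    x ∈ G.co F ↔ F.map (pr ⟨0⟩) x = F.map (lst ⟨0⟩) x := Iff.rfl

theorem mem_co_iff_cob (G : Gal B C) (F : PM.{w} B) (x : F.obj ⟨0⟩) : x ∈ G.co F ↔ cob F 0 x = 0 := by
  rw [mem_co, cob_zero, sub_eq_zero, eq_comm]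

theorem cob_smul (G : Gal B C) (F : PM.{w} B) (n : ℕ) (c : C) (y : F.obj ⟨n⟩) :
    cob F n (G.str ⟨n⟩ c • y) = G.str ⟨n + 1⟩ c • cob F n y := by
  rw [cob_apply, cob_apply, Finset.smul_sum]
  refine Finset.sum_congr rfl fun i _ => ?_
  rw [F.map_smul, smul_comm, ← G.str_map (del n i)]
  rfl

/-- the diagonal -/
def dg : (⟨0⟩ : NF) ⟶ ⟨1⟩ := (fun _ => 0 : Fin 2 → Fin 1)

theorem dg_lst : dg ≫ lst ⟨0⟩ = 𝟙 _ := by
  funext i
  exact Subsingleton.elim (α := Fin 1) _ _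

theorem dg_pr : dg ≫ pr ⟨0⟩ = 𝟙 _ := by
  funext i
  exact Subsingleton.elim (α := Fin 1) _ _

/-- `(a, b) ↦ (a, b, b)` -/
def dg1 : (⟨1⟩ : NF) ⟶ ⟨2⟩ := (![0, 1, 1] : Fin 3 → Fin 2)

theorem dg1_del_zero : dg1 ≫ del 1 (Fin.castSucc 0) = lst ⟨0⟩ ≫ dg := by
  funext i
  revert i
  exact show ∀ i : Fin 2, (![0, 1, 1] : Fin 3 → Fin 2) (Fin.succAbove (Fin.castSucc 0) i) = Fin.last 1 by decide

theorem dg1_del_one : dg1 ≫ del 1 (Fin.castSucc 1) = 𝟙 _ := by
  funext i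
  revert i
  exact show ∀ i : Fin 2, (![0, 1, 1] : Fin 3 → Fin 2) (Fin.succAbove (Fin.castSucc 1) i) = i by decide

theorem map_lst_injective (F : PM.{w} B) : Function.Injective (F.map (lst ⟨0⟩)) := by
  intro x y h
  have := congrArg (F.map dg) h
  rwa [← F.map_comp, ← F.map_comp, dg_lst, F.map_id, F.map_id] at this

/-- **descent**: `F⟨0⟩` is the base change of the coinvariants -/
theorem isBC_co (GB : GR B) (G : Gal B C) (F : PM.{w} B) (hF : F.Cart) :
    letI : Module C (F.obj ⟨0⟩) := Module.compHom _ G.φ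
    IsBC G.φ (M := G.co F) (G.co F).subtype.toAddMonoidHom := by
  letI m0 : Module C (F.obj ⟨0⟩) := Module.compHom _ G.φ
  letI m1 : Module C (F.obj ⟨1⟩) := Module.compHom _ (G.str ⟨1⟩)
  have hu : letI i1 : Module (B.obj (op ⟨0⟩)) (F.obj ⟨1⟩) := Module.compHom _ (rg B (lst ⟨0⟩))
      IsBC G.φ (F.map (pr ⟨0⟩)) := by
    letI i1 : Module (B.obj (op ⟨0⟩)) (F.obj ⟨1⟩) := Module.compHom _ (rg B (lst ⟨0⟩))
    exact IsBC.of_po G.po.flip (fun _ _ => rfl) (fun _ _ => rfl) (hF (pr ⟨0⟩))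
  have hu' := G.isBC_pr GB F hF ⟨1⟩
  have hg1 : ∀ (c : C) (y : F.obj ⟨0⟩), cob F 0 (c • y) = c • cob F 0 y := fun c y => by
    have h := G.cob_smul F 0 c y
    rw [G.str_zero] at h
    exact h
  let g : F.obj ⟨0⟩ →ₗ[C] F.obj ⟨1⟩ := { cob F 0 with map_smul' := hg1 }
  letI i1 : Module (B.obj (op ⟨0⟩)) (F.obj ⟨1⟩) := Module.compHom _ (rg B (lst ⟨0⟩))
  letI i2 : Module (B.obj (op ⟨0⟩)) (F.obj ⟨2⟩) := Module.compHom _ (rg B (lst ⟨1⟩))
  let j' : F.obj ⟨0⟩ →ₗ[B.obj (op ⟨0⟩)] F.obj ⟨1⟩ := { F.map (lst ⟨0⟩) with map_smul' := fun b y => F.map_smul _ b y }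
  let g' : F.obj ⟨1⟩ →ₗ[B.obj (op ⟨0⟩)] F.obj ⟨2⟩ := { cob' F 0 with map_smul' := fun b y => cob'_smul F 0 b y }
  have hg0 : ∀ m, g' m = F.map (del 1 (Fin.castSucc 0)) m - F.map (del 1 (Fin.castSucc 1)) m := fun m => by
    refine (cob'_apply F 0 m).trans ?_
    rw [Fin.sum_univ_two]
    simp [sub_eq_add_neg]
  refine IsBC.of_exact (RingHom.FaithfullyFlat.flat G.ff) (G.co F).subtype Subtype.val_injective g (fun m => ?_) j'
    (map_lst_injective F) g' (fun m => ?_) hu hu' (fun k => k.2.symm) (fun m => cob'_map F 0 m)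
  · exact ⟨fun h => ⟨⟨m, (G.mem_co_iff_cob F m).2 h⟩, rfl⟩, fun ⟨k, hk⟩ => hk ▸ (G.mem_co_iff_cob F k.1).1 k.2⟩
  · rw [hg0, sub_eq_zero]
    constructor
    · intro h
      have := congrArg (F.map dg1) h
      rw [← F.map_comp, ← F.map_comp, dg1_del_zero, dg1_del_one, F.map_comp, F.map_id] at this
      exact ⟨_, this⟩
    · rintro ⟨k, rfl⟩
      change F.map _ (F.map _ k) = F.map _ (F.map _ k)
      rw [← F.map_comp, ← F.map_comp, del_castSucc, del_castSucc, wmap_lst, wmap_lst]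

end Gal

section FF

variable {A D : Type*} [CommRing A] [CommRing D]

/-- faithfully flat descent of surjectivity -/
theorem surjective_of_isBC {M N P Q : Type*} [AddCommGroup M] [Module A M] [AddCommGroup N] [Module D N]
    [AddCommGroup P] [Module A P] [AddCommGroup Q] [Module D Q] {φ : A →+* D} (hφ : φ.FaithfullyFlat)
    {f : M →+ N} (h : IsBC φ f) {f' : P →+ Q} (h' : IsBC φ f') (g : M →ₗ[A] P) (g' : N →ₗ[D] Q)
    (hg : ∀ m, g' (f m) = f' (g m)) (hs : Function.Surjective g') : Function.Surjective g := by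
  let L : Submodule D Q := Submodule.span D (f' '' (LinearMap.range g))
  have hL : L = ⊤ := by
    rw [eq_top_iff]
    rintro q -
    obtain ⟨n, rfl⟩ := hs q
    induction n using h.induction with
    | zero => rw [map_zero]; exact L.zero_mem
    | map m => rw [hg]; exact Submodule.subset_span ⟨_, ⟨m, rfl⟩, rfl⟩
    | smul b y hy => rw [map_smul]; exact L.smul_mem _ hy
    | add y z hy hz => rw [map_add]; exact L.add_mem hy hz
  have h0 : ∀ p ∈ LinearMap.range g, f' p ∈ L := fun p hp => Submodule.subset_span ⟨p, hp, rfl⟩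
  let e : (P ⧸ LinearMap.range g) →+ (Q ⧸ L) :=
    QuotientAddGroup.map (LinearMap.range g).toAddSubgroup L.toAddSubgroup f' h0
  have h1 : IsBC φ e := isBC_quot h' (LinearMap.range g) L rfl e (fun x => rfl)
  have h2 := h1.injective hφ
  intro p
  have h3 : (Submodule.Quotient.mk p : P ⧸ LinearMap.range g) = 0 := by
    apply h2
    haveI : Subsingleton (Q ⧸ L) := Submodule.Quotient.subsingleton_iff.2 hL
    exact Subsingleton.elim _ _
  exact (Submodule.Quotient.mk_eq_zero _).1 h3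

/-- faithfully flat descent of finite generation -/
theorem finite_of_isBC {M N : Type*} [AddCommGroup M] [Module A M] [AddCommGroup N] [Module D N] {φ : A →+* D}
    (hφ : φ.FaithfullyFlat) {f : M →+ N} (h : IsBC φ f) [Module.Finite D N] : Module.Finite A M := by
  obtain ⟨s, hs⟩ := Module.Finite.fg_top (R := D) (M := N)
  have h0 : ∀ x : s, (x : N) ∈ Submodule.span D (f '' (⊤ : Submodule A M)) := fun x => by
    have : (f '' (⊤ : Submodule A M) : Set N) = Set.range f := by simp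
    rw [this, h.span_range]
    trivial
  choose N' h1 h2 h3 using fun x => exists_fg_of_mem_span f ⊤ (h0 x)
  let T : Submodule A M := ⨆ x, N' x
  have hT : T.FG := Submodule.fg_iSup _ h2
  let L : Submodule D N := Submodule.span D (f '' T)
  have hL : L = ⊤ := by
    rw [eq_top_iff, ← hs, Submodule.span_le]
    intro x hx
    exact Submodule.span_mono (Set.image_mono (SetLike.coe_subset_coe.2 (le_iSup N' ⟨x, hx⟩))) (h3 ⟨x, hx⟩)
  have h4 : ∀ p ∈ T, f p ∈ L := fun p hp => Submodule.subset_span ⟨p, hp, rfl⟩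
  let e : (M ⧸ T) →+ (N ⧸ L) := QuotientAddGroup.map T.toAddSubgroup L.toAddSubgroup f h4
  have h5 : IsBC φ e := isBC_quot h T L rfl e (fun x => rfl)
  have h6 := h5.injective hφ
  have h7 : T = ⊤ := by
    rw [eq_top_iff]
    intro p _
    have h8 : (Submodule.Quotient.mk p : M ⧸ T) = 0 := by
      apply h6
      haveI : Subsingleton (N ⧸ L) := Submodule.Quotient.subsingleton_iff.2 hL
      exact Subsingleton.elim _ _
    exact (Submodule.Quotient.mk_eq_zero _).1 h8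
  exact ⟨h7 ▸ hT⟩

end FF

namespace Gal

variable {C : Type u} [CommRing C]

/-- `F⟨0⟩` is generated by the coinvariants -/
theorem span_co (GB : GR B) (G : Gal B C) (F : PM.{w} B) (hF : F.Cart) :
    Submodule.span (B.obj (op ⟨0⟩)) {x : F.obj ⟨0⟩ | cob F 0 x = 0} = ⊤ := by
  letI : Module C (F.obj ⟨0⟩) := Module.compHom _ G.φ
  have h := (G.isBC_co GB F hF).span_range
  rw [← h]
  congr 1
  ext x
  constructor
  · intro hx
    exact ⟨⟨x, (G.mem_co_iff_cob F x).2 hx⟩, rfl⟩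
  · rintro ⟨k, rfl⟩
    exact (G.mem_co_iff_cob F k.1).1 k.2

/-- no coinvariants: zero -/
theorem eq_zero_of_co (GB : GR B) (G : Gal B C) (F : PM.{w} B) (hF : F.Cart)
    (h0 : ∀ x : F.obj ⟨0⟩, cob F 0 x = 0 → x = 0) (x : F.obj ⟨0⟩) : x = 0 := by
  have h : x ∈ Submodule.span (B.obj (op ⟨0⟩)) {x : F.obj ⟨0⟩ | cob F 0 x = 0} := by
    rw [G.span_co GB F hF]
    trivial
  refine Submodule.span_induction (p := fun x _ => x = 0) (fun x hx => h0 x hx) rfl (fun x y _ _ hx hy => ?_)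
    (fun a x _ hx => ?_) h
  · rw [hx, hy, add_zero]
  · rw [hx, smul_zero]

/-- the coinvariants of a finitely generated module are finitely generated -/
theorem co_finite (GB : GR B) (G : Gal B C) (F : PM.{w} B) (hF : F.Cart) [Module.Finite (B.obj (op ⟨0⟩)) (F.obj ⟨0⟩)] :
    letI : Module C (F.obj ⟨0⟩) := Module.compHom _ G.φ
    Module.Finite C (G.co F) := by
  letI : Module C (F.obj ⟨0⟩) := Module.compHom _ G.φ
  exact finite_of_isBC G.ff (G.isBC_co GB F hF)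

/-- coinvariants are exact: lifting along surjections -/
theorem exists_co_lift (GB : GR B) (G : Gal B C) (F : PM.{w} B) (hF : F.Cart) (F' : PM.{w₁} B) (hF' : F'.Cart)
    (q0 : F.obj ⟨0⟩ →ₗ[B.obj (op ⟨0⟩)] F'.obj ⟨0⟩) (q1 : F.obj ⟨1⟩ →+ F'.obj ⟨1⟩)
    (h1 : ∀ x, q1 (F.map (pr ⟨0⟩) x) = F'.map (pr ⟨0⟩) (q0 x)) (h2 : ∀ x, q1 (F.map (lst ⟨0⟩) x) = F'.map (lst ⟨0⟩) (q0 x))
    (hs : Function.Surjective q0) (y : F'.obj ⟨0⟩) (hy : cob F' 0 y = 0) : ∃ x, cob F 0 x = 0 ∧ q0 x = y := by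
  letI i1 : Module C (F.obj ⟨0⟩) := Module.compHom _ G.φ
  letI i2 : Module C (F'.obj ⟨0⟩) := Module.compHom _ G.φ
  have hm : ∀ x : G.co F, q0 x.1 ∈ G.co F' := fun x => by
    rw [G.mem_co, ← h1, ← h2]
    exact congrArg q1 x.2
  let r : G.co F →ₗ[C] G.co F' :=
    { toFun := fun x => ⟨q0 x.1, hm x⟩
      map_add' := fun x x' => Subtype.ext (map_add q0 _ _)
      map_smul' := fun c x => Subtype.ext (q0.map_smul (G.φ c) x.1) }
  have h3 := surjective_of_isBC G.ff (G.isBC_co GB F hF) (G.isBC_co GB F' hF') r q0 (fun m => rfl) hs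
  obtain ⟨x, hx⟩ := h3 ⟨y, (G.mem_co_iff_cob F' y).2 hy⟩
  exact ⟨x.1, (G.mem_co_iff_cob F x.1).1 x.2, congrArg Subtype.val hx⟩

/-- degree 1, elementwise: a 1-cocycle is a coboundary -/
theorem exact_one (GB : GR B) (G : Gal B C) (F : PM.{w} B) (hF : F.Cart) (x : F.obj ⟨1⟩)
    (hx : F.map (del 1 0) x - F.map (del 1 1) x + F.map (del 1 2) x = 0) :
    ∃ y : F.obj ⟨0⟩, F.map (lst ⟨0⟩) y - F.map (pr ⟨0⟩) y = x := by
  obtain ⟨y, hy⟩ := G.exact GB F hF 0 x (by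
    rw [cob_apply, Fin.sum_univ_three]
    simpa [sub_eq_add_neg] using hx)
  exact ⟨y, by rw [← cob_zero]; exact hy⟩

/-- degree 2, elementwise: a 2-cocycle is a coboundary -/
theorem exact_two (GB : GR B) (G : Gal B C) (F : PM.{w} B) (hF : F.Cart) (x : F.obj ⟨2⟩)
    (hx : F.map (del 2 0) x - F.map (del 2 1) x + F.map (del 2 2) x - F.map (del 2 3) x = 0) :
    ∃ y : F.obj ⟨1⟩, F.map (del 1 0) y - F.map (del 1 1) y + F.map (del 1 2) y = x := by
  obtain ⟨y, hy⟩ := G.exact GB F hF 1 x (by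
    rw [cob_apply, Fin.sum_univ_four]
    simpa [sub_eq_add_neg, pow_succ] using hx)
  refine ⟨y, ?_⟩
  rw [← hy, cob_apply, Fin.sum_univ_three]
  simp [sub_eq_add_neg]

end Gal

end Groth.Agent.ResProp.EF.K477
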