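import Groth.Agent.ResProp.EF.K477.Gal
import Groth.Agent.ResProp.EF.Base
import Mathlib.Algebra.Category.Ring.Constructions

/-!
# Base change of groupoid rings and of Galois data along `k → B`

`cartHom_GR`: `GR` goes along cartesian morphisms; `Gal.baseChange`; `IsTens`: `E⟨n⟩ = B ⊗_k Dd⟨n⟩` (as a predicate: pushout
squares), `IsTens.cartHom`, `IsTens.gr`, `IsTens.gal`; `tn`: the explicit tensor product functor `n ↦ B ⊗[k] Dd⟨n⟩`.
-/

set_option autoImplicit false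
set_option linter.dupNamespace false
set_option linter.style.haveILetI false

open CategoryTheory Opposite TensorProduct

namespace Groth.Agent.ResProp.EF.K477

open K784.BC K784.PM K741.RP EF56

universe w₂ w₁ w u

section PO

variable {R R' A P R₁ R₁' A₁ P₁ : Type u} [CommRing R] [CommRing R'] [CommRing A] [CommRing P]
  [CommRing R₁] [CommRing R₁'] [CommRing A₁] [CommRing P₁]

/-- horizontal pasting, ring form: `R → R' → R''`, `A → A' → A''` -/
theorem IsPO.paste {R'' A' A'' : Type u} [CommRing R''] [CommRing A'] [CommRing A'']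
    {ρ : R →+* R'} {α : R →+* A} {β : R' →+* A'} {φ : A →+* A'} {ρ' : R' →+* R''} {β' : R'' →+* A''} {φ' : A' →+* A''}
    (h : IsPO ρ α β φ) (h' : IsPO ρ' β β' φ') : IsPO (ρ'.comp ρ) α β' (φ'.comp φ) := by
  have := IsPushout.paste_horiz h h'
  rw [← CommRingCat.ofHom_comp, ← CommRingCat.ofHom_comp] at this
  exact this

/-- cancellation -/
theorem IsPO.cancel {R'' A' A'' : Type u} [CommRing R''] [CommRing A'] [CommRing A'']
    {ρ : R →+* R'} {α : R →+* A} {β : R' →+* A'} {φ : A →+* A'} {ρ' : R' →+* R''} {β' : R'' →+* A''} {φ' : A' →+* A''}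
    (h : IsPO ρ α β φ) (h' : IsPO (ρ'.comp ρ) α β' (φ'.comp φ)) (c : β'.comp ρ' = φ'.comp β) :
    IsPO ρ' β β' φ' := by
  refine IsPushout.of_left (h₁₁ := CommRingCat.ofHom ρ) (h₂₁ := CommRingCat.ofHom φ) (v₁₁ := CommRingCat.ofHom α) ?_ ?_ h
  · rw [← CommRingCat.ofHom_comp, ← CommRingCat.ofHom_comp]
    exact h'
  · rw [← CommRingCat.ofHom_comp, ← CommRingCat.ofHom_comp, c]

/-- a cube: the base change of a pushout square is a pushout square -/
theorem IsPO.cube {ρ : R →+* R'} {α : R →+* A} {β : R' →+* P} {φ : A →+* P} {ρ₁ : R₁ →+* R₁'} {α₁ : R₁ →+* A₁}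
    {β₁ : R₁' →+* P₁} {φ₁ : A₁ →+* P₁} {i : R →+* R₁} {i' : R' →+* R₁'} {a : A →+* A₁} {p : P →+* P₁}
    (h : IsPO ρ α β φ) (h1 : IsPO α i a α₁) (h2 : IsPO β i' p β₁)
    (c1 : ρ₁.comp i = i'.comp ρ) (c2 : φ₁.comp a = p.comp φ) (c3 : φ₁.comp α₁ = β₁.comp ρ₁) :
    IsPO ρ₁ α₁ β₁ φ₁ := by
  -- paste `h.flip` with `h2`: `R → A`, `R → R' → R₁'`
  have h3 : IsPO (i'.comp ρ) α β₁ (p.comp φ) := IsPO.paste h h2.flip
  rw [← c1, ← c2] at h3
  exact IsPO.cancel h1.flip h3 c3.symm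

end PO

variable {Dd E : NFᵒᵖ ⥤ CommRingCat.{u}}

theorem CartHom.cube {a b c d : NF} {j : Dd ⟶ E} (hj : CartHom j) {ρ : a ⟶ b} {α : c ⟶ b} {β : d ⟶ a} {φ : d ⟶ c}
    (h : IsPO (rg Dd ρ) (rg Dd α) (rg Dd β) (rg Dd φ)) (hc : β ≫ ρ = φ ≫ α) :
    IsPO (rg E ρ) (rg E α) (rg E β) (rg E φ) := by
  refine IsPO.cube h (hj α) (hj β) ?_ ?_ ?_
  · exact (hj ρ).comm.symm
  · exact (hj φ).comm.symm
  · rw [← rg_comp, ← rg_comp, hc]

/-- groupoid rings go along cartesian morphisms -/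
theorem CartHom.gr {j : Dd ⟶ E} (hj : CartHom j) (h : GR Dd) : GR E where
  ff a := IsPO.ff (hj (pr a)) (h.ff a)
  po φ := CartHom.cube hj (h.po φ) (wmap_pr φ).symm

/-- Galois data go along cartesian morphisms -/
def Gal.baseChange {C C' : Type u} [CommRing C] [CommRing C'] (G : Gal Dd C) {j : Dd ⟶ E} (hj : CartHom j)
    (γ : C →+* C') (φ' : C' →+* E.obj (op ⟨0⟩)) (h : IsPO G.φ γ (j.app (op ⟨0⟩)).hom φ')
    (hc : (rg E (pr ⟨0⟩)).comp φ' = (rg E (lst ⟨0⟩)).comp φ') : Gal E C' where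
  φ := φ'
  ff := IsPO.ff h G.ff
  po := IsPO.cube G.po h (hj (pr ⟨0⟩)) h.comm.symm (hj (lst ⟨0⟩)).comm.symm hc.symm

/-- two ring maps out of a pushout agree if they agree on the two sides -/
theorem IsPO.hom_ext {R R' A P Q : Type u} [CommRing R] [CommRing R'] [CommRing A] [CommRing P] [CommRing Q]
    {ρ : R →+* R'} {α : R →+* A} {β : R' →+* P} {φ : A →+* P} (h : IsPO ρ α β φ) {f g : P →+* Q}
    (h1 : f.comp β = g.comp β) (h2 : f.comp φ = g.comp φ) : f = g := by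
  have : CommRingCat.ofHom f = CommRingCat.ofHom g := by
    refine IsPushout.hom_ext h ?_ ?_
    · rw [← CommRingCat.ofHom_comp, h1, CommRingCat.ofHom_comp]
    · rw [← CommRingCat.ofHom_comp, h2, CommRingCat.ofHom_comp]
  exact congrArg CommRingCat.Hom.hom this

/-- existence of the map out of a pushout -/
theorem IsPO.exists_desc {R R' A P Q : Type u} [CommRing R] [CommRing R'] [CommRing A] [CommRing P] [CommRing Q]
    {ρ : R →+* R'} {α : R →+* A} {β : R' →+* P} {φ : A →+* P} (h : IsPO ρ α β φ) (f : R' →+* Q) (g : A →+* Q)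
    (hc : f.comp ρ = g.comp α) : ∃ e : P →+* Q, e.comp β = f ∧ e.comp φ = g := by
  have w : CommRingCat.ofHom ρ ≫ CommRingCat.ofHom f = CommRingCat.ofHom α ≫ CommRingCat.ofHom g := by
    rw [← CommRingCat.ofHom_comp, ← CommRingCat.ofHom_comp, hc]
  refine ⟨(IsPushout.desc h (CommRingCat.ofHom f) (CommRingCat.ofHom g) w).hom, ?_, ?_⟩
  · exact congrArg CommRingCat.Hom.hom (IsPushout.inl_desc h _ _ w)
  · exact congrArg CommRingCat.Hom.hom (IsPushout.inr_desc h _ _ w)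

section Tens

variable {k B : Type u} [CommRing k] [CommRing B]

/-- `E⟨n⟩ = B ⊗_k Dd⟨n⟩`, as a predicate -/
structure IsTens (kk : ∀ a : NF, k →+* Dd.obj (op a)) (β : k →+* B) (incl : Dd ⟶ E)
    (b : ∀ a : NF, B →+* E.obj (op a)) : Prop where
  kk_nat : ∀ {a c : NF} (φ : a ⟶ c), (rg Dd φ).comp (kk c) = kk a
  b_nat : ∀ {a c : NF} (φ : a ⟶ c), (rg E φ).comp (b c) = b a
  po : ∀ a : NF, IsPO (kk a) β (incl.app (op a)).hom (b a)

variable {kk : ∀ a : NF, k →+* Dd.obj (op a)} {β : k →+* B} {incl : Dd ⟶ E} {b : ∀ a : NF, B →+* E.obj (op a)}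

theorem incl_nat {a c : NF} (φ : a ⟶ c) :
    (incl.app (op a)).hom.comp (rg Dd φ) = (rg E φ).comp (incl.app (op c)).hom :=
  congrArg CommRingCat.Hom.hom (incl.naturality φ.op)

theorem IsTens.cartHom (h : IsTens kk β incl b) : CartHom incl := by
  intro a c φ
  have h1 := (h.po c).flip
  have h2 := (h.po a).flip
  -- `β, kk c, b c, incl c` then `rg Dd φ`
  have h3 : IsPO ((rg Dd φ).comp (kk c)) β (incl.app (op a)).hom ((rg E φ).comp (b c)) := by
    rw [h.kk_nat, h.b_nat]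
    exact h.po a
  exact IsPO.cancel (h.po c) h3 (incl_nat φ)

theorem IsTens.gr (h : IsTens kk β incl b) (hD : GR Dd) : GR E := CartHom.gr h.cartHom hD

/-- the Galois datum of `B ⊗ Dd` over `B ⊗ C` -/
noncomputable def IsTens.gal (h : IsTens kk β incl b) {C C' : Type u} [CommRing C] [CommRing C'] (G : Gal Dd C)
    (kC : k →+* C) (hk : G.φ.comp kC = kk ⟨0⟩) (γ : C →+* C') (bC : B →+* C') (hpo : IsPO kC β γ bC) : Gal E C' :=
  have e1 : ((incl.app (op ⟨0⟩)).hom.comp G.φ).comp kC = (b ⟨0⟩).comp β := by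
    rw [RingHom.comp_assoc, hk]
    exact (h.po ⟨0⟩).comm
  have ex := IsPO.exists_desc hpo ((incl.app (op ⟨0⟩)).hom.comp G.φ) (b ⟨0⟩) e1
  have h1 : ex.choose.comp γ = (incl.app (op ⟨0⟩)).hom.comp G.φ := ex.choose_spec.1
  have h2 : ex.choose.comp bC = b ⟨0⟩ := ex.choose_spec.2
  G.baseChange h.cartHom γ ex.choose (by
      have h3 : IsPO (G.φ.comp kC) β (incl.app (op ⟨0⟩)).hom (ex.choose.comp bC) := by
        rw [hk, h2]
        exact h.po ⟨0⟩
      exact IsPO.cancel hpo h3 h1.symm) (by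
      refine IsPO.hom_ext hpo ?_ ?_
      · rw [RingHom.comp_assoc, RingHom.comp_assoc, h1, ← RingHom.comp_assoc, ← RingHom.comp_assoc, ← incl_nat,
          ← incl_nat, RingHom.comp_assoc, RingHom.comp_assoc, G.po.comm]
      · rw [RingHom.comp_assoc, RingHom.comp_assoc, h2, h.b_nat, h.b_nat])

end Tens

section Explicit

variable {k : Type u} [CommRing k] (B : Type u) [CommRing B] [Algebra k B]

/-- `B ⊗_k R`, `R` a `k`-algebra through `κ` -/
def TO {R : Type u} [CommRing R] (κ : k →+* R) : Type u :=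
  letI := κ.toAlgebra
  B ⊗[k] R

noncomputable instance {R : Type u} [CommRing R] (κ : k →+* R) : CommRing (TO B κ) := by
  letI := κ.toAlgebra
  unfold TO
  infer_instance

/-- `r ↦ 1 ⊗ r` -/
noncomputable def TO.inr {R : Type u} [CommRing R] (κ : k →+* R) : R →+* TO B κ :=
  letI := κ.toAlgebra
  (Algebra.TensorProduct.includeRight : R →ₐ[k] B ⊗[k] R).toRingHom

/-- `b ↦ b ⊗ 1` -/
noncomputable def TO.inl {R : Type u} [CommRing R] (κ : k →+* R) : B →+* TO B κ :=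
  letI := κ.toAlgebra
  (Algebra.TensorProduct.includeLeftRingHom : B →+* B ⊗[k] R)

theorem TO.po {R : Type u} [CommRing R] (κ : k →+* R) : IsPO κ (algebraMap k B) (TO.inr B κ) (TO.inl B κ) := by
  letI := κ.toAlgebra
  exact (CommRingCat.isPushout_tensorProduct k B R).flip

/-- functoriality in `R` -/
noncomputable def TO.map {R R' : Type u} [CommRing R] [CommRing R'] (κ : k →+* R) (κ' : k →+* R') (f : R →+* R')
    (h : f.comp κ = κ') : TO B κ →+* TO B κ' :=
  letI := κ.toAlgebra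
  letI := κ'.toAlgebra
  (Algebra.TensorProduct.map (AlgHom.id k B) ({ f with commutes' := fun r => congr($h r) } : R →ₐ[k] R')).toRingHom

theorem TO.map_inr {R R' : Type u} [CommRing R] [CommRing R'] (κ : k →+* R) (κ' : k →+* R') (f : R →+* R')
    (h : f.comp κ = κ') : (TO.map B κ κ' f h).comp (TO.inr B κ) = (TO.inr B κ').comp f := by
  letI := κ.toAlgebra
  letI := κ'.toAlgebra
  ext r
  change Algebra.TensorProduct.map (AlgHom.id k B) ({ f with commutes' := fun r => congr($h r) } : R →ₐ[k] R')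
    ((1 : B) ⊗ₜ[k] r) = (1 : B) ⊗ₜ[k] f r
  rw [Algebra.TensorProduct.map_tmul]
  rfl

theorem TO.map_inl {R R' : Type u} [CommRing R] [CommRing R'] (κ : k →+* R) (κ' : k →+* R') (f : R →+* R')
    (h : f.comp κ = κ') : (TO.map B κ κ' f h).comp (TO.inl B κ) = TO.inl B κ' := by
  letI := κ.toAlgebra
  letI := κ'.toAlgebra
  ext b
  change Algebra.TensorProduct.map (AlgHom.id k B) ({ f with commutes' := fun r => congr($h r) } : R →ₐ[k] R')
    (b ⊗ₜ[k] (1 : R)) = b ⊗ₜ[k] (1 : R')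
  rw [Algebra.TensorProduct.map_tmul, AlgHom.id_apply, map_one]

theorem TO.hom_ext {R Q : Type u} [CommRing R] [CommRing Q] (κ : k →+* R) {f g : TO B κ →+* Q}
    (h1 : f.comp (TO.inr B κ) = g.comp (TO.inr B κ)) (h2 : f.comp (TO.inl B κ) = g.comp (TO.inl B κ)) : f = g :=
  IsPO.hom_ext (TO.po B κ) h1 h2

variable (Dd : NFᵒᵖ ⥤ CommRingCat.{u}) (kk : ∀ a : NF, k →+* Dd.obj (op a))
  (hk : ∀ {a c : NF} (φ : a ⟶ c), (rg Dd φ).comp (kk c) = kk a)

/-- `n ↦ B ⊗_k Dd⟨n⟩` -/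
noncomputable def tn : NFᵒᵖ ⥤ CommRingCat.{u} where
  obj a := CommRingCat.of (TO B (kk a.unop))
  map {a c} φ := CommRingCat.ofHom (TO.map B (kk a.unop) (kk c.unop) (rg Dd φ.unop) (hk φ.unop))
  map_id a := by
    refine congrArg CommRingCat.ofHom (TO.hom_ext B _ ?_ ?_)
    · rw [TO.map_inr]
      change (TO.inr B _).comp (rg Dd (𝟙 a.unop)) = (RingHom.id _).comp _
      rw [rg_id]
      rfl
    · rw [TO.map_inl]
      rfl
  map_comp {a c e} φ ψ := by
    rw [← CommRingCat.ofHom_comp]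
    refine congrArg CommRingCat.ofHom (TO.hom_ext B _ ?_ ?_)
    · rw [RingHom.comp_assoc, TO.map_inr, TO.map_inr, ← RingHom.comp_assoc, TO.map_inr, RingHom.comp_assoc]
      congr 1
      exact rg_comp Dd ψ.unop φ.unop
    · rw [RingHom.comp_assoc, TO.map_inl, TO.map_inl, TO.map_inl]

/-- the inclusion `Dd ⟶ tn` -/
noncomputable def tnIncl : Dd ⟶ tn B Dd kk hk where
  app a := CommRingCat.ofHom (TO.inr B (kk a.unop))
  naturality {a c} φ := by
    refine congrArg CommRingCat.ofHom ?_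
    exact (TO.map_inr B (kk a.unop) (kk c.unop) (rg Dd φ.unop) (hk φ.unop)).symm

theorem isTens_tn : IsTens kk (algebraMap k B) (tnIncl B Dd kk hk) (fun a => TO.inl B (kk a)) where
  kk_nat := hk
  b_nat {a c} φ := TO.map_inl B (kk c) (kk a) (rg Dd φ) (hk φ)
  po a := TO.po B (kk a)

end Explicit

end Groth.Agent.ResProp.EF.K477
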