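import Groth.Agent.ResProp.EF.K477.TensNF

/-!
# `n ↦ B ⊗_k Dd⟨n⟩` is functorial in `B`

`tnMap`: for `β : B →ₐ[k] B'` the morphism `tn B Dd ⟶ tn B' Dd`; `isTens_tnMap`: it is the base change along `β`, so it is
cartesian (`cartHom_tnMap`).
-/

set_option autoImplicit false
set_option linter.dupNamespace false
set_option linter.style.haveILetI false

open CategoryTheory Opposite TensorProduct

namespace Groth.Agent.ResProp.EF.K477

open K784.BC K784.PM K741.RP EF56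

universe u

variable {k : Type u} [CommRing k] {B B' B'' : Type u} [CommRing B] [Algebra k B] [CommRing B'] [Algebra k B']
  [CommRing B''] [Algebra k B'']

/-- functoriality in `B` -/
noncomputable def TO.mapB (β : B →ₐ[k] B') {R : Type u} [CommRing R] (κ : k →+* R) : TO B κ →+* TO B' κ :=
  letI := κ.toAlgebra
  (Algebra.TensorProduct.map β (AlgHom.id k R)).toRingHom

theorem TO.mapB_inr (β : B →ₐ[k] B') {R : Type u} [CommRing R] (κ : k →+* R) :
    (TO.mapB β κ).comp (TO.inr B κ) = TO.inr B' κ := by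
  letI := κ.toAlgebra
  ext r
  change Algebra.TensorProduct.map β (AlgHom.id k R) ((1 : B) ⊗ₜ[k] r) = (1 : B') ⊗ₜ[k] r
  rw [Algebra.TensorProduct.map_tmul, map_one, AlgHom.id_apply]

theorem TO.mapB_inl (β : B →ₐ[k] B') {R : Type u} [CommRing R] (κ : k →+* R) :
    (TO.mapB β κ).comp (TO.inl B κ) = (TO.inl B' κ).comp (β : B →+* B') := by
  letI := κ.toAlgebra
  ext b
  change Algebra.TensorProduct.map β (AlgHom.id k R) (b ⊗ₜ[k] (1 : R)) = (β b) ⊗ₜ[k] (1 : R)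
  rw [Algebra.TensorProduct.map_tmul, map_one]

theorem TO.po_mapB (β : B →ₐ[k] B') {R : Type u} [CommRing R] (κ : k →+* R) :
    IsPO (TO.inl B κ) (β : B →+* B') (TO.mapB β κ) (TO.inl B' κ) := by
  have h1 := (TO.po B κ).flip
  have h2 : IsPO ((β : B →+* B').comp (algebraMap k B)) κ (TO.inl B' κ) ((TO.mapB β κ).comp (TO.inr B κ)) := by
    rw [TO.mapB_inr, β.comp_algebraMap]
    exact (TO.po B' κ).flip
  exact (IsPO.cancel h1 h2 (TO.mapB_inl β κ).symm).flip

theorem TO.mapB_map (β : B →ₐ[k] B') {R R' : Type u} [CommRing R] [CommRing R'] (κ : k →+* R) (κ' : k →+* R')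
    (f : R →+* R') (h : f.comp κ = κ') :
    (TO.mapB β κ').comp (TO.map B κ κ' f h) = (TO.map B' κ κ' f h).comp (TO.mapB β κ) := by
  refine TO.hom_ext B κ ?_ ?_
  · rw [RingHom.comp_assoc, TO.map_inr, RingHom.comp_assoc, TO.mapB_inr, TO.map_inr, ← RingHom.comp_assoc,
      TO.mapB_inr]
  · rw [RingHom.comp_assoc, TO.map_inl, RingHom.comp_assoc, TO.mapB_inl, TO.mapB_inl, ← RingHom.comp_assoc,
      TO.map_inl]

theorem TO.mapB_id {R : Type u} [CommRing R] (κ : k →+* R) : TO.mapB (AlgHom.id k B) κ = RingHom.id _ := by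
  refine TO.hom_ext B κ ?_ ?_
  · rw [TO.mapB_inr]
    rfl
  · rw [TO.mapB_inl]
    rfl

theorem TO.mapB_comp (β : B →ₐ[k] B') (β' : B' →ₐ[k] B'') {R : Type u} [CommRing R] (κ : k →+* R) :
    TO.mapB (β'.comp β) κ = (TO.mapB β' κ).comp (TO.mapB β κ) := by
  refine TO.hom_ext B κ ?_ ?_
  · rw [TO.mapB_inr, RingHom.comp_assoc, TO.mapB_inr, TO.mapB_inr]
  · rw [TO.mapB_inl, RingHom.comp_assoc, TO.mapB_inl, ← RingHom.comp_assoc, TO.mapB_inl]
    rfl

variable (Dd : NFᵒᵖ ⥤ CommRingCat.{u}) (kk : ∀ a : NF, k →+* Dd.obj (op a))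
  (hk : ∀ {a c : NF} (φ : a ⟶ c), (rg Dd φ).comp (kk c) = kk a)

/-- `tn` is functorial in `B` -/
noncomputable def tnMap (β : B →ₐ[k] B') : tn B Dd kk hk ⟶ tn B' Dd kk hk where
  app a := CommRingCat.ofHom (TO.mapB β (kk a.unop))
  naturality {a c} φ := by
    refine congrArg CommRingCat.ofHom ?_
    exact TO.mapB_map β (kk a.unop) (kk c.unop) (rg Dd φ.unop) (hk φ.unop)

theorem tnMap_id : tnMap Dd kk hk (AlgHom.id k B) = 𝟙 _ := by
  ext a : 2
  exact congrArg CommRingCat.ofHom (TO.mapB_id (kk a.unop))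

theorem tnMap_comp (β : B →ₐ[k] B') (β' : B' →ₐ[k] B'') :
    tnMap Dd kk hk (β'.comp β) = tnMap Dd kk hk β ≫ tnMap Dd kk hk β' := by
  ext a : 2
  exact congrArg CommRingCat.ofHom (TO.mapB_comp β β' (kk a.unop))

theorem tnIncl_tnMap (β : B →ₐ[k] B') : tnIncl B Dd kk hk ≫ tnMap Dd kk hk β = tnIncl B' Dd kk hk := by
  ext a : 2
  exact congrArg CommRingCat.ofHom (TO.mapB_inr β (kk a.unop))

theorem isTens_tnMap (β : B →ₐ[k] B') :
    IsTens (Dd := tn B Dd kk hk) (E := tn B' Dd kk hk) (fun a => TO.inl B (kk a)) (β : B →+* B') (tnMap Dd kk hk β)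
      (fun a => TO.inl B' (kk a)) where
  kk_nat {a c} φ := TO.map_inl B (kk c) (kk a) (rg Dd φ) (hk φ)
  b_nat {a c} φ := TO.map_inl B' (kk c) (kk a) (rg Dd φ) (hk φ)
  po a := TO.po_mapB β (kk a)

theorem cartHom_tnMap (β : B →ₐ[k] B') : CartHom (tnMap Dd kk hk β) := (isTens_tnMap Dd kk hk β).cartHom

theorem cartHom_tnIncl : CartHom (tnIncl B Dd kk hk) := (isTens_tn B Dd kk hk).cartHom

theorem gr_tn (h : GR Dd) : GR (tn B Dd kk hk) := (isTens_tn B Dd kk hk).gr h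

/-- the Galois datum of `n ↦ B ⊗_k Dd⟨n⟩` over `B ⊗_k C` -/
noncomputable def galTn {C : Type u} [CommRing C] (G : Gal Dd C) (kC : k →+* C) (h : G.φ.comp kC = kk ⟨0⟩) :
    Gal (tn B Dd kk hk) (TO B kC) :=
  (isTens_tn B Dd kk hk).gal G kC h (TO.inr B kC) (TO.inl B kC) (TO.po B kC)

end Groth.Agent.ResProp.EF.K477
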